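import Cfsg.Agent.Spor.L37b.D0

set_option autoImplicit false
set_option maxRecDepth 100000000
set_option Elab.async false

namespace Cfsg.Agent.Spor.L37b

theorem ok0 : Net.okb 9 n0 = true := by decide +kernel

theorem ok1 : Net.okb 9 n1 = true := by decide +kernel

theorem ok2 : Net.okb 9 n2 = true := by decide +kernel

theorem ok3 : Net.okb 9 n3 = true := by decide +kernel

theorem rel0 : T.rel 9 [1, 1, 1] 0 9 = true := by decide +kernel

theorem rel1 : T.rel 9 [2, 2] 0 9 = true := by decide +kernel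

theorem rel2 : T.rel 9 [3, 3] 0 9 = true := by decide +kernel

theorem rel3 : T.rel 9 [4, 4] 0 9 = true := by decide +kernel

theorem rel4 : T.rel 9 [2, 5, 2, 5, 2, 5] 0 9 = true := by decide +kernel

theorem rel5 : T.rel 9 [3, 5, 3, 5] 0 9 = true := by decide +kernel

theorem rel6 : T.rel 9 [4, 5, 4, 5] 0 9 = true := by decide +kernel

theorem rel7 : T.rel 9 [3, 6, 3, 6, 3, 6, 3, 6, 3, 6, 3, 6, 3, 6, 3, 6] 0 9 = true := by decide +kernel

theorem rel8 : T.rel 9 [4, 6, 4, 6] 0 9 = true := by decide +kernel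

theorem rel9 : T.rel 9 [4, 7, 4, 7] 0 9 = true := by decide +kernel

theorem rel10 : T.rel 9 [2, 7, 2, 7, 2, 7, 2, 7, 4] 0 9 = true := by decide +kernel

theorem rel11 : T.rel 9 [6, 3, 6, 3, 6, 3, 6, 3, 8] 0 9 = true := by decide +kernel

theorem hcov : T.treeCov (ones 336) L 1 = true := by decide +kernel

theorem hg : lall (fun z => band (memL L z) (band (sub (ones 336) (T.let z).cl) (T.closed (ones 336) z))) gs = true := by decide +kernel

theorem rot1_1 : T.rot 1 [5] (sel (ones 336) ip1 1) = true := by decide +kernel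

theorem rot1_1r : band (Rule.ok (2 * 0) EX RL ⟨1 :: [5], [], 12, false⟩) (lall (memL L) [5]) = true := by decide +kernel

theorem rot1_2 : T.rot 1 [1, 1] (sel (ones 336) ip1 2) = true := by decide +kernel

theorem rot1_2r : band (Rule.ok (2 * 0) EX RL ⟨1 :: [1, 1], [], 0, true⟩) (lall (memL L) [1, 1]) = true := by decide +kernel

theorem rot1_3 : T.rot 1 [7, 1, 7] (sel (ones 336) ip1 3) = true := by decide +kernel

theorem rot1_3r : band (Rule.ok (2 * 0) EX RL ⟨1 :: [7, 1, 7], [], 5, false⟩) (lall (memL L) [7, 1, 7]) = true := by decide +kernel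

theorem rot1_4 : T.rot 1 [8, 1, 8] (sel (ones 336) ip1 4) = true := by decide +kernel

theorem rot1_4r : band (Rule.ok (2 * 0) EX RL ⟨1 :: [8, 1, 8], [], 6, false⟩) (lall (memL L) [8, 1, 8]) = true := by decide +kernel

theorem rot1_5 : T.rot 1 [6, 1, 6, 1, 6] (sel (ones 336) ip1 5) = true := by decide +kernel

theorem rot1_5r : band (Rule.ok (2 * 0) EX RL ⟨1 :: [6, 1, 6, 1, 6], [], 4, false⟩) (lall (memL L) [6, 1, 6, 1, 6]) = true := by decide +kernel

theorem cov1 : T.cover 1 [(sel (ones 336) ip1 1), (sel (ones 336) ip1 2), (sel (ones 336) ip1 3), (sel (ones 336) ip1 4), (sel (ones 336) ip1 5)] = true := by decide +kernel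

theorem tl1 : T.treeLt 9 1 = true := by decide +kernel

theorem rot2_1 : T.rot 2 [6] (sel (ones 336) ip2 1) = true := by decide +kernel

theorem rot2_1r : band (Rule.ok (2 * 0) EX RL ⟨2 :: [6], [], 12, false⟩) (lall (memL L) [6]) = true := by decide +kernel

theorem rot2_2 : T.rot 2 [2] (sel (ones 336) ip2 2) = true := by decide +kernel

theorem rot2_2r : band (Rule.ok (2 * 0) EX RL ⟨2 :: [2], [], 1, true⟩) (lall (memL L) [2]) = true := by decide +kernel

theorem rot2_3 : T.rot 2 [8, 2, 8] (sel (ones 336) ip2 3) = true := by decide +kernel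

theorem rot2_3r : band (Rule.ok (2 * 0) EX RL ⟨2 :: [8, 2, 8], [], 8, false⟩) (lall (memL L) [8, 2, 8]) = true := by decide +kernel

theorem rot2_4 : T.rot 2 [5, 2, 5, 2, 5] (sel (ones 336) ip2 4) = true := by decide +kernel

theorem rot2_4r : band (Rule.ok (2 * 0) EX RL ⟨2 :: [5, 2, 5, 2, 5], [], 4, true⟩) (lall (memL L) [5, 2, 5, 2, 5]) = true := by decide +kernel

theorem rot2_5 : T.rot 2 [7, 2, 7, 2, 7, 2, 7, 4] (sel (ones 336) ip2 5) = true := by decide +kernel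

theorem rot2_5r : band (Rule.ok (2 * 0) EX RL ⟨2 :: [7, 2, 7, 2, 7, 2, 7, 4], [], 10, true⟩) (lall (memL L) [7, 2, 7, 2, 7, 2, 7, 4]) = true := by decide +kernel

theorem rot2_6 : T.rot 2 [7, 2, 7, 2, 7, 4, 2, 7] (sel (ones 336) ip2 6) = true := by decide +kernel

theorem rot2_6r : band (Rule.ok (2 * 0) EX RL ⟨2 :: [7, 2, 7, 2, 7, 4, 2, 7], [3, 4], 10, true⟩) (lall (memL L) [7, 2, 7, 2, 7, 4, 2, 7]) = true := by decide +kernel

theorem rot2_7 : T.rot 2 [7, 2, 7, 4, 2, 7, 2, 7] (sel (ones 336) ip2 7) = true := by decide +kernel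

theorem rot2_7r : band (Rule.ok (2 * 0) EX RL ⟨2 :: [7, 2, 7, 4, 2, 7, 2, 7], [3, 4, 3, 4], 10, true⟩) (lall (memL L) [7, 2, 7, 4, 2, 7, 2, 7]) = true := by decide +kernel

theorem rot2_8 : T.rot 2 [7, 4, 2, 7, 2, 7, 2, 7] (sel (ones 336) ip2 8) = true := by decide +kernel

theorem rot2_8r : band (Rule.ok (2 * 0) EX RL ⟨2 :: [7, 4, 2, 7, 2, 7, 2, 7], [6, 5, 2], 10, true⟩) (lall (memL L) [7, 4, 2, 7, 2, 7, 2, 7]) = true := by decide +kernel

theorem rot2_9 : T.rot 2 [7, 2, 7, 2, 4, 7, 2, 7] (sel (ones 336) ip2 9) = true := by decide +kernel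

theorem rot2_9r : band (Rule.ok (2 * 0) EX RL ⟨2 :: [7, 2, 7, 2, 4, 7, 2, 7], [7, 4, 3, 4], 11, false⟩) (lall (memL L) [7, 2, 7, 2, 4, 7, 2, 7]) = true := by decide +kernel

theorem rot2_10 : T.rot 2 [7, 2, 4, 7, 2, 7, 2, 7] (sel (ones 336) ip2 10) = true := by decide +kernel

theorem rot2_10r : band (Rule.ok (2 * 0) EX RL ⟨2 :: [7, 2, 4, 7, 2, 7, 2, 7], [2, 5, 2], 11, false⟩) (lall (memL L) [7, 2, 4, 7, 2, 7, 2, 7]) = true := by decide +kernel

theorem rot2_11 : T.rot 2 [4, 7, 2, 7, 2, 7, 2, 7] (sel (ones 336) ip2 11) = true := by decide +kernel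

theorem rot2_11r : band (Rule.ok (2 * 0) EX RL ⟨2 :: [4, 7, 2, 7, 2, 7, 2, 7], [2], 11, false⟩) (lall (memL L) [4, 7, 2, 7, 2, 7, 2, 7]) = true := by decide +kernel

theorem rot2_12 : T.rot 2 [7, 2, 7, 2, 7, 2, 7, 2, 7, 2, 7, 2, 7, 2, 7] (sel (ones 336) ip2 12) = true := by decide +kernel

theorem rot2_12r : band (Rule.ok (2 * 0) EX RL ⟨2 :: [7, 2, 7, 2, 7, 2, 7, 2, 7, 2, 7, 2, 7, 2, 7], [], 7, false⟩) (lall (memL L) [7, 2, 7, 2, 7, 2, 7, 2, 7, 2, 7, 2, 7, 2, 7]) = true := by decide +kernel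

theorem cov2 : T.cover 2 [(sel (ones 336) ip2 1), (sel (ones 336) ip2 2), (sel (ones 336) ip2 3), (sel (ones 336) ip2 4), (sel (ones 336) ip2 5), (sel (ones 336) ip2 6), (sel (ones 336) ip2 7), (sel (ones 336) ip2 8), (sel (ones 336) ip2 9), (sel (ones 336) ip2 10), (sel (ones 336) ip2 11), (sel (ones 336) ip2 12)] = true := by decide +kernel

theorem tl2 : T.treeLt 9 2 = true := by decide +kernel

theorem rot3_1 : T.rot 3 [7] (sel (ones 336) ip3 1) = true := by decide +kernel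

theorem rot3_1r : band (Rule.ok (2 * 0) EX RL ⟨3 :: [7], [], 12, false⟩) (lall (memL L) [7]) = true := by decide +kernel

theorem rot3_2 : T.rot 3 [3] (sel (ones 336) ip3 2) = true := by decide +kernel

theorem rot3_2r : band (Rule.ok (2 * 0) EX RL ⟨3 :: [3], [], 2, true⟩) (lall (memL L) [3]) = true := by decide +kernel

theorem rot3_3 : T.rot 3 [5, 3, 5] (sel (ones 336) ip3 3) = true := by decide +kernel

theorem rot3_3r : band (Rule.ok (2 * 0) EX RL ⟨3 :: [5, 3, 5], [], 5, true⟩) (lall (memL L) [5, 3, 5]) = true := by decide +kernel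

theorem rot3_4 : T.rot 3 [8, 3, 8] (sel (ones 336) ip3 4) = true := by decide +kernel

theorem rot3_4r : band (Rule.ok (2 * 0) EX RL ⟨3 :: [8, 3, 8], [], 9, false⟩) (lall (memL L) [8, 3, 8]) = true := by decide +kernel

theorem rot3_5 : T.rot 3 [6, 3, 6, 3, 6, 3, 6, 8] (sel (ones 336) ip3 5) = true := by decide +kernel

theorem rot3_5r : band (Rule.ok (2 * 0) EX RL ⟨3 :: [6, 3, 6, 3, 6, 3, 6, 8], [6], 10, false⟩) (lall (memL L) [6, 3, 6, 3, 6, 3, 6, 8]) = true := by decide +kernel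

theorem rot3_6 : T.rot 3 [6, 3, 6, 3, 6, 8, 3, 6] (sel (ones 336) ip3 6) = true := by decide +kernel

theorem rot3_6r : band (Rule.ok (2 * 0) EX RL ⟨3 :: [6, 3, 6, 3, 6, 8, 3, 6], [6, 5, 2], 10, false⟩) (lall (memL L) [6, 3, 6, 3, 6, 8, 3, 6]) = true := by decide +kernel

theorem rot3_7 : T.rot 3 [6, 3, 6, 8, 3, 6, 3, 6] (sel (ones 336) ip3 7) = true := by decide +kernel

theorem rot3_7r : band (Rule.ok (2 * 0) EX RL ⟨3 :: [6, 3, 6, 8, 3, 6, 3, 6], [3, 4, 3, 4], 10, false⟩) (lall (memL L) [6, 3, 6, 8, 3, 6, 3, 6]) = true := by decide +kernel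

theorem rot3_8 : T.rot 3 [6, 8, 3, 6, 3, 6, 3, 6] (sel (ones 336) ip3 8) = true := by decide +kernel

theorem rot3_8r : band (Rule.ok (2 * 0) EX RL ⟨3 :: [6, 8, 3, 6, 3, 6, 3, 6], [3, 4], 10, false⟩) (lall (memL L) [6, 8, 3, 6, 3, 6, 3, 6]) = true := by decide +kernel

theorem rot3_9 : T.rot 3 [6, 3, 6, 3, 6, 3, 8, 6] (sel (ones 336) ip3 9) = true := by decide +kernel

theorem rot3_9r : band (Rule.ok (2 * 0) EX RL ⟨3 :: [6, 3, 6, 3, 6, 3, 8, 6], [2], 11, true⟩) (lall (memL L) [6, 3, 6, 3, 6, 3, 8, 6]) = true := by decide +kernel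

theorem rot3_10 : T.rot 3 [6, 3, 6, 3, 8, 6, 3, 6] (sel (ones 336) ip3 10) = true := by decide +kernel

theorem rot3_10r : band (Rule.ok (2 * 0) EX RL ⟨3 :: [6, 3, 6, 3, 8, 6, 3, 6], [2, 5, 2], 11, true⟩) (lall (memL L) [6, 3, 6, 3, 8, 6, 3, 6]) = true := by decide +kernel

theorem rot3_11 : T.rot 3 [8, 6, 3, 6, 3, 6, 3, 6] (sel (ones 336) ip3 11) = true := by decide +kernel

theorem rot3_11r : band (Rule.ok (2 * 0) EX RL ⟨3 :: [8, 6, 3, 6, 3, 6, 3, 6], [7, 4], 11, true⟩) (lall (memL L) [8, 6, 3, 6, 3, 6, 3, 6]) = true := by decide +kernel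

theorem cov3 : T.cover 3 [(sel (ones 336) ip3 1), (sel (ones 336) ip3 2), (sel (ones 336) ip3 3), (sel (ones 336) ip3 4), (sel (ones 336) ip3 5), (sel (ones 336) ip3 6), (sel (ones 336) ip3 7), (sel (ones 336) ip3 8), (sel (ones 336) ip3 9), (sel (ones 336) ip3 10), (sel (ones 336) ip3 11)] = true := by decide +kernel

theorem tl3 : T.treeLt 9 3 = true := by decide +kernel

theorem rot4_1 : T.rot 4 [4] (sel (ones 336) ip4 1) = true := by decide +kernel

theorem rot4_1r : band (Rule.ok (2 * 0) EX RL ⟨4 :: [4], [], 3, true⟩) (lall (memL L) [4]) = true := by decide +kernel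

theorem rot4_2 : T.rot 4 [5, 4, 5] (sel (ones 336) ip4 2) = true := by decide +kernel

theorem rot4_2r : band (Rule.ok (2 * 0) EX RL ⟨4 :: [5, 4, 5], [], 6, true⟩) (lall (memL L) [5, 4, 5]) = true := by decide +kernel

theorem rot4_3 : T.rot 4 [6, 4, 6] (sel (ones 336) ip4 3) = true := by decide +kernel

theorem rot4_3r : band (Rule.ok (2 * 0) EX RL ⟨4 :: [6, 4, 6], [], 8, true⟩) (lall (memL L) [6, 4, 6]) = true := by decide +kernel

theorem rot4_4 : T.rot 4 [7, 4, 7] (sel (ones 336) ip4 4) = true := by decide +kernel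

theorem rot4_4r : band (Rule.ok (2 * 0) EX RL ⟨4 :: [7, 4, 7], [], 9, true⟩) (lall (memL L) [7, 4, 7]) = true := by decide +kernel

theorem rot4_5 : T.rot 4 [2, 7, 2, 7, 2, 7, 2, 7] (sel (ones 336) ip4 5) = true := by decide +kernel

theorem rot4_5r : band (Rule.ok (2 * 0) EX RL ⟨4 :: [2, 7, 2, 7, 2, 7, 2, 7], [6], 10, true⟩) (lall (memL L) [2, 7, 2, 7, 2, 7, 2, 7]) = true := by decide +kernel

theorem rot4_6 : T.rot 4 [7, 2, 7, 2, 7, 2, 7, 2] (sel (ones 336) ip4 6) = true := by decide +kernel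

theorem rot4_6r : band (Rule.ok (2 * 0) EX RL ⟨4 :: [7, 2, 7, 2, 7, 2, 7, 2], [], 11, false⟩) (lall (memL L) [7, 2, 7, 2, 7, 2, 7, 2]) = true := by decide +kernel

theorem cov4 : T.cover 4 [(sel (ones 336) ip4 1), (sel (ones 336) ip4 2), (sel (ones 336) ip4 3), (sel (ones 336) ip4 4), (sel (ones 336) ip4 5), (sel (ones 336) ip4 6)] = true := by decide +kernel

theorem tl4 : T.treeLt 9 4 = true := by decide +kernel

theorem rot5_1 : T.rot 5 [1] (sel (ones 336) ip5 1) = true := by decide +kernel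

theorem rot5_1r : band (Rule.ok (2 * 0) EX RL ⟨5 :: [1], [], 12, false⟩) (lall (memL L) [1]) = true := by decide +kernel

theorem rot5_2 : T.rot 5 [5, 5] (sel (ones 336) ip5 2) = true := by decide +kernel

theorem rot5_2r : band (Rule.ok (2 * 0) EX RL ⟨5 :: [5, 5], [], 0, false⟩) (lall (memL L) [5, 5]) = true := by decide +kernel

theorem rot5_3 : T.rot 5 [3, 5, 3] (sel (ones 336) ip5 3) = true := by decide +kernel

theorem rot5_3r : band (Rule.ok (2 * 0) EX RL ⟨5 :: [3, 5, 3], [1], 5, true⟩) (lall (memL L) [3, 5, 3]) = true := by decide +kernel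

theorem rot5_4 : T.rot 5 [4, 5, 4] (sel (ones 336) ip5 4) = true := by decide +kernel

theorem rot5_4r : band (Rule.ok (2 * 0) EX RL ⟨5 :: [4, 5, 4], [1], 6, true⟩) (lall (memL L) [4, 5, 4]) = true := by decide +kernel

theorem rot5_5 : T.rot 5 [2, 5, 2, 5, 2] (sel (ones 336) ip5 5) = true := by decide +kernel

theorem rot5_5r : band (Rule.ok (2 * 0) EX RL ⟨5 :: [2, 5, 2, 5, 2], [1], 4, true⟩) (lall (memL L) [2, 5, 2, 5, 2]) = true := by decide +kernel

theorem cov5 : T.cover 5 [(sel (ones 336) ip5 1), (sel (ones 336) ip5 2), (sel (ones 336) ip5 3), (sel (ones 336) ip5 4), (sel (ones 336) ip5 5)] = true := by decide +kernel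

theorem tl5 : T.treeLt 9 5 = true := by decide +kernel

theorem rot6_1 : T.rot 6 [2] (sel (ones 336) ip6 1) = true := by decide +kernel

theorem rot6_1r : band (Rule.ok (2 * 0) EX RL ⟨6 :: [2], [], 12, false⟩) (lall (memL L) [2]) = true := by decide +kernel

theorem rot6_2 : T.rot 6 [6] (sel (ones 336) ip6 2) = true := by decide +kernel

theorem rot6_2r : band (Rule.ok (2 * 0) EX RL ⟨6 :: [6], [], 1, false⟩) (lall (memL L) [6]) = true := by decide +kernel

theorem rot6_3 : T.rot 6 [4, 6, 4] (sel (ones 336) ip6 3) = true := by decide +kernel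

theorem rot6_3r : band (Rule.ok (2 * 0) EX RL ⟨6 :: [4, 6, 4], [3], 8, true⟩) (lall (memL L) [4, 6, 4]) = true := by decide +kernel

theorem rot6_4 : T.rot 6 [1, 6, 1, 6, 1] (sel (ones 336) ip6 4) = true := by decide +kernel

theorem rot6_4r : band (Rule.ok (2 * 0) EX RL ⟨6 :: [1, 6, 1, 6, 1], [3], 4, false⟩) (lall (memL L) [1, 6, 1, 6, 1]) = true := by decide +kernel

theorem rot6_5 : T.rot 6 [3, 6, 3, 6, 3, 6, 8, 3] (sel (ones 336) ip6 5) = true := by decide +kernel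

theorem rot6_5r : band (Rule.ok (2 * 0) EX RL ⟨6 :: [3, 6, 3, 6, 3, 6, 8, 3], [6, 5], 10, false⟩) (lall (memL L) [3, 6, 3, 6, 3, 6, 8, 3]) = true := by decide +kernel

theorem rot6_6 : T.rot 6 [3, 6, 8, 3, 6, 3, 6, 3] (sel (ones 336) ip6 6) = true := by decide +kernel

theorem rot6_6r : band (Rule.ok (2 * 0) EX RL ⟨6 :: [3, 6, 8, 3, 6, 3, 6, 3], [3, 4, 3], 10, false⟩) (lall (memL L) [3, 6, 8, 3, 6, 3, 6, 3]) = true := by decide +kernel

theorem rot6_7 : T.rot 6 [8, 3, 6, 3, 6, 3, 6, 3] (sel (ones 336) ip6 7) = true := by decide +kernel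

theorem rot6_7r : band (Rule.ok (2 * 0) EX RL ⟨6 :: [8, 3, 6, 3, 6, 3, 6, 3], [3], 10, false⟩) (lall (memL L) [8, 3, 6, 3, 6, 3, 6, 3]) = true := by decide +kernel

theorem rot6_8 : T.rot 6 [3, 6, 3, 6, 3, 6, 3, 8] (sel (ones 336) ip6 8) = true := by decide +kernel

theorem rot6_8r : band (Rule.ok (2 * 0) EX RL ⟨6 :: [3, 6, 3, 6, 3, 6, 3, 8], [], 11, true⟩) (lall (memL L) [3, 6, 3, 6, 3, 6, 3, 8]) = true := by decide +kernel

theorem rot6_9 : T.rot 6 [3, 6, 3, 6, 3, 8, 6, 3] (sel (ones 336) ip6 9) = true := by decide +kernel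

theorem rot6_9r : band (Rule.ok (2 * 0) EX RL ⟨6 :: [3, 6, 3, 6, 3, 8, 6, 3], [2, 5], 11, true⟩) (lall (memL L) [3, 6, 3, 6, 3, 8, 6, 3]) = true := by decide +kernel

theorem cov6 : T.cover 6 [(sel (ones 336) ip6 1), (sel (ones 336) ip6 2), (sel (ones 336) ip6 3), (sel (ones 336) ip6 4), (sel (ones 336) ip6 5), (sel (ones 336) ip6 6), (sel (ones 336) ip6 7), (sel (ones 336) ip6 8), (sel (ones 336) ip6 9)] = true := by decide +kernel

theorem tl6 : Nat.beq (T.let 6).tt 0 = true := by decide +kernel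

theorem rot7_1 : T.rot 7 [3] (sel (ones 336) ip7 1) = true := by decide +kernel

theorem rot7_1r : band (Rule.ok (2 * 0) EX RL ⟨7 :: [3], [], 12, false⟩) (lall (memL L) [3]) = true := by decide +kernel

theorem rot7_2 : T.rot 7 [7] (sel (ones 336) ip7 2) = true := by decide +kernel

theorem rot7_2r : band (Rule.ok (2 * 0) EX RL ⟨7 :: [7], [], 2, false⟩) (lall (memL L) [7]) = true := by decide +kernel

theorem rot7_3 : T.rot 7 [1, 7, 1] (sel (ones 336) ip7 3) = true := by decide +kernel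

theorem rot7_3r : band (Rule.ok (2 * 0) EX RL ⟨7 :: [1, 7, 1], [5], 5, false⟩) (lall (memL L) [1, 7, 1]) = true := by decide +kernel

theorem rot7_4 : T.rot 7 [4, 7, 4] (sel (ones 336) ip7 4) = true := by decide +kernel

theorem rot7_4r : band (Rule.ok (2 * 0) EX RL ⟨7 :: [4, 7, 4], [5], 9, true⟩) (lall (memL L) [4, 7, 4]) = true := by decide +kernel

theorem rot7_5 : T.rot 7 [2, 7, 2, 7, 2, 7, 4, 2] (sel (ones 336) ip7 5) = true := by decide +kernel

theorem rot7_5r : band (Rule.ok (2 * 0) EX RL ⟨7 :: [2, 7, 2, 7, 2, 7, 4, 2], [3], 10, true⟩) (lall (memL L) [2, 7, 2, 7, 2, 7, 4, 2]) = true := by decide +kernel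

theorem rot7_6 : T.rot 7 [2, 7, 2, 7, 4, 2, 7, 2] (sel (ones 336) ip7 6) = true := by decide +kernel

theorem rot7_6r : band (Rule.ok (2 * 0) EX RL ⟨7 :: [2, 7, 2, 7, 4, 2, 7, 2], [3, 4, 3], 10, true⟩) (lall (memL L) [2, 7, 2, 7, 4, 2, 7, 2]) = true := by decide +kernel

theorem rot7_7 : T.rot 7 [2, 7, 4, 2, 7, 2, 7, 2] (sel (ones 336) ip7 7) = true := by decide +kernel

theorem rot7_7r : band (Rule.ok (2 * 0) EX RL ⟨7 :: [2, 7, 4, 2, 7, 2, 7, 2], [6, 5, 2, 5], 10, true⟩) (lall (memL L) [2, 7, 4, 2, 7, 2, 7, 2]) = true := by decide +kernel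

theorem rot7_8 : T.rot 7 [4, 2, 7, 2, 7, 2, 7, 2] (sel (ones 336) ip7 8) = true := by decide +kernel

theorem rot7_8r : band (Rule.ok (2 * 0) EX RL ⟨7 :: [4, 2, 7, 2, 7, 2, 7, 2], [6, 5], 10, true⟩) (lall (memL L) [4, 2, 7, 2, 7, 2, 7, 2]) = true := by decide +kernel

theorem rot7_9 : T.rot 7 [2, 7, 2, 7, 2, 7, 2, 4] (sel (ones 336) ip7 9) = true := by decide +kernel

theorem rot7_9r : band (Rule.ok (2 * 0) EX RL ⟨7 :: [2, 7, 2, 7, 2, 7, 2, 4], [7], 11, false⟩) (lall (memL L) [2, 7, 2, 7, 2, 7, 2, 4]) = true := by decide +kernel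

theorem rot7_10 : T.rot 7 [2, 7, 2, 7, 2, 4, 7, 2] (sel (ones 336) ip7 10) = true := by decide +kernel

theorem rot7_10r : band (Rule.ok (2 * 0) EX RL ⟨7 :: [2, 7, 2, 7, 2, 4, 7, 2], [7, 4, 3], 11, false⟩) (lall (memL L) [2, 7, 2, 7, 2, 4, 7, 2]) = true := by decide +kernel

theorem rot7_11 : T.rot 7 [2, 7, 2, 4, 7, 2, 7, 2] (sel (ones 336) ip7 11) = true := by decide +kernel

theorem rot7_11r : band (Rule.ok (2 * 0) EX RL ⟨7 :: [2, 7, 2, 4, 7, 2, 7, 2], [2, 5, 2, 5], 11, false⟩) (lall (memL L) [2, 7, 2, 4, 7, 2, 7, 2]) = true := by decide +kernel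

theorem rot7_12 : T.rot 7 [2, 4, 7, 2, 7, 2, 7, 2] (sel (ones 336) ip7 12) = true := by decide +kernel

theorem rot7_12r : band (Rule.ok (2 * 0) EX RL ⟨7 :: [2, 4, 7, 2, 7, 2, 7, 2], [2, 5], 11, false⟩) (lall (memL L) [2, 4, 7, 2, 7, 2, 7, 2]) = true := by decide +kernel

theorem cov7 : T.cover 7 [(sel (ones 336) ip7 1), (sel (ones 336) ip7 2), (sel (ones 336) ip7 3), (sel (ones 336) ip7 4), (sel (ones 336) ip7 5), (sel (ones 336) ip7 6), (sel (ones 336) ip7 7), (sel (ones 336) ip7 8), (sel (ones 336) ip7 9), (sel (ones 336) ip7 10), (sel (ones 336) ip7 11), (sel (ones 336) ip7 12)] = true := by decide +kernel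

theorem tl7 : Nat.beq (T.let 7).tt 0 = true := by decide +kernel

theorem rot8_1 : T.rot 8 [4] (sel (ones 336) ip8 1) = true := by decide +kernel

theorem rot8_1r : band (Rule.ok (2 * 0) EX RL ⟨8 :: [4], [], 12, false⟩) (lall (memL L) [4]) = true := by decide +kernel

theorem rot8_2 : T.rot 8 [8] (sel (ones 336) ip8 2) = true := by decide +kernel

theorem rot8_2r : band (Rule.ok (2 * 0) EX RL ⟨8 :: [8], [], 3, false⟩) (lall (memL L) [8]) = true := by decide +kernel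

theorem rot8_3 : T.rot 8 [1, 8, 1] (sel (ones 336) ip8 3) = true := by decide +kernel

theorem rot8_3r : band (Rule.ok (2 * 0) EX RL ⟨8 :: [1, 8, 1], [7], 6, false⟩) (lall (memL L) [1, 8, 1]) = true := by decide +kernel

theorem rot8_4 : T.rot 8 [2, 8, 2] (sel (ones 336) ip8 4) = true := by decide +kernel

theorem rot8_4r : band (Rule.ok (2 * 0) EX RL ⟨8 :: [2, 8, 2], [7], 8, false⟩) (lall (memL L) [2, 8, 2]) = true := by decide +kernel

theorem rot8_5 : T.rot 8 [3, 8, 3] (sel (ones 336) ip8 5) = true := by decide +kernel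

theorem rot8_5r : band (Rule.ok (2 * 0) EX RL ⟨8 :: [3, 8, 3], [7], 9, false⟩) (lall (memL L) [3, 8, 3]) = true := by decide +kernel

theorem rot8_6 : T.rot 8 [3, 6, 3, 6, 3, 6, 3, 6] (sel (ones 336) ip8 6) = true := by decide +kernel

theorem rot8_6r : band (Rule.ok (2 * 0) EX RL ⟨8 :: [3, 6, 3, 6, 3, 6, 3, 6], [], 10, false⟩) (lall (memL L) [3, 6, 3, 6, 3, 6, 3, 6]) = true := by decide +kernel

theorem rot8_7 : T.rot 8 [6, 3, 6, 3, 6, 3, 6, 3] (sel (ones 336) ip8 7) = true := by decide +kernel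

theorem rot8_7r : band (Rule.ok (2 * 0) EX RL ⟨8 :: [6, 3, 6, 3, 6, 3, 6, 3], [7], 11, true⟩) (lall (memL L) [6, 3, 6, 3, 6, 3, 6, 3]) = true := by decide +kernel

theorem cov8 : T.cover 8 [(sel (ones 336) ip8 1), (sel (ones 336) ip8 2), (sel (ones 336) ip8 3), (sel (ones 336) ip8 4), (sel (ones 336) ip8 5), (sel (ones 336) ip8 6), (sel (ones 336) ip8 7)] = true := by decide +kernel

theorem tl8 : Nat.beq (T.let 8).tt 0 = true := by decide +kernel

end Cfsg.Agent.Spor.L37b
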